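import Cfsg.Agent.Fi22Out.Data

/-!
An involution commuting with an element of order 11 in the centraliser of `a` is `a`.
-/

set_option autoImplicit false
set_option maxRecDepth 100000

namespace CfsgLib.Fi22Out

open CfsgLib.CosetEnum

noncomputable section

/-- Membership. -/
def has (L : List ℕ) (p : ℕ) : Bool := L.any (Nat.beq p)

/-- Saturate by derivations. -/
def close : List (ℕ × ℕ) → List ℕ → List ℕ
  | [], L => L
  | (p, q) :: s, L => bif has L p && has L q then force (mv p q) fun r => close s (r :: L) else close s L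

/-- An orbit of the element of order 11. -/
def orb : ℕ → ℕ → List ℕ
  | 0, _ => []
  | f + 1, q => q :: force (ext tx q) fun r => orb f r

/-- Targets: the points of eight reflections. -/
def targets : List ℕ := [6, 16, 40, 88, 154, 43, 92, 26]

/-- A point commuting with `a`, other than `a`. -/
def inC (q : ℕ) : Bool := !(Nat.beq q 0) && com 0 q

/-- A case of the first kind. -/
def caseAOK (c : ℕ × List (ℕ × ℕ)) : Bool := targets.all (has (close c.2 (orb 11 c.1)))

/-- A case of the second kind. -/
def caseBOK (c : ℕ × List (ℕ × ℕ)) : Bool := baseB.all (has (close c.2 (orb 11 c.1)))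

/-- A case of the third kind. -/
def caseCOK (c : ℕ × List (ℕ × ℕ)) : Bool := targets.all (has (close c.2 (c.1 :: baseB)))

/-- The orbits covering the points commuting with `a`. -/
def covered (i : ℕ) : Bool :=
  bif Nat.blt i 3510 && inC i then
    (casesA.any fun c => has (orb 11 c.1) i) || (casesB.any fun c => has (orb 11 c.1) i) else true

/-- The table of the element of order 11 agrees with its word. -/
def txOK (i : ℕ) : Bool :=
  bif Nat.blt i 3510 then
    Nat.beq (walk tb xw i) (ext tx i) && Nat.beq (walk (fun _ => tx) (List.replicate 11 0) i) i &&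
      (Nat.beq i 0 || !(Nat.beq (ext tx i) i)) else true

/-- The choices for the point 6. -/
def pinOK (i : ℕ) : Bool :=
  bif Nat.blt i 3510 && inC i && (pinB.all fun p => com p i) then has (casesC.map Prod.fst) i else true

/-- The choices for the point of `b`. -/
def pinTwoOK (i : ℕ) : Bool :=
  bif Nat.blt i 3510 && !(Nat.beq i 0) && (([16, 40, 88, 154, 43, 92, 26] : List ℕ).all fun p => com p i) then
    Nat.beq i 1 || Nat.beq i 2 else true

/-- The reflections at the points of the generators are the generators. -/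
def gptOK (k : ℕ) : Bool := allR (sameWord 3510 tb (dw (gpt.getD k 0)) [k]) 12 0

theorem casesA_ok : casesA.all caseAOK = true := by decide +kernel
theorem casesB_ok : casesB.all caseBOK = true := by decide +kernel
theorem casesC_ok : casesC.all caseCOK = true := by decide +kernel
theorem covered_ok : allR covered 12 0 = true := by decide +kernel
theorem tx_ok : allR txOK 12 0 = true := by decide +kernel
theorem pin_ok : allR pinOK 12 0 = true := by decide +kernel
theorem pinTwo_ok : allR pinTwoOK 12 0 = true := by decide +kernel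
theorem gpt_ok : (List.range 9).all gptOK = true := by decide +kernel
theorem small_facts : (mv 0 2 = 1 ∧ com 0 6 = true ∧ (targets.all fun p => inC p) = true ∧
    (pinB.all fun p => com p 6) = true ∧ ([16, 40, 88, 154, 43, 92, 26].all fun p => com p 2) = true ∧
    xw.all (fun x => Nat.blt x 9) = true) ∧
    cntR (fun i => Nat.blt i 3510 && inC i) 12 0 = 693 := by decide +kernel

theorem getD_gpt_lt (k : ℕ) : gpt.getD k 0 < 3510 := by
  by_cases h : k < 9
  · interval_cases k <;> decide +kernel
  · rw [List.getD_eq_default _ _ (show gpt.length ≤ k by simp [gpt]; omega)]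
    norm_num

/-- The point of a generator. -/
def gpF (k : ℕ) : Fin N := ⟨gpt.getD k 0, getD_gpt_lt k⟩

/-- The element of order 11. -/
def X : G := prodw Fi22.setup.g xw

namespace Act

variable (S : Act)
include S

theorem d_gpF {k : ℕ} (hk : k < 9) : d (gpF k) = Fi22.setup.g k := by
  have h := List.all_eq_true.mp gpt_ok k (List.mem_range.mpr hk)
  have := prodw_eq_of_sameWord (S := Fi22.setup) S.inj S.spec (dw (gpF k)) [k] (dw_lt (lt_of_pt _))
    (fun x hx => by simp at hx; subst hx; exact hk) (show 3510 ≤ 2 ^ 12 by norm_num) h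
  rw [prodw_cons, prodw_nil, mul_one] at this
  exact this

theorem eq_one_of_comm {t : G} (h : ∀ k, k < 9 → S.φ t (gpF k) = gpF k) : t = 1 := by
  haveI := Fi22.finite_grp
  haveI : IsSimpleGroup G := Fi22.isSimpleGroup_Fi22
  have hc : t ∈ Subgroup.center G := by
    rw [Subgroup.mem_center_iff]
    intro y
    have hy : y ∈ Subgroup.centralizer ({t} : Set G) := by
      have h1 : (⊤ : Subgroup G) ≤ Subgroup.centralizer ({t} : Set G) := by
        rw [← Fi22.setup.letSub_all (List.range 9) (fun x hx => List.mem_range.mpr hx)]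
        refine (Subgroup.closure_le _).mpr ?_
        rintro _ ⟨x, hx, rfl⟩
        have hx9 : x < 9 := List.mem_range.mp hx
        have h2 := (S.commute_iff t (gpF x)).2 (h x hx9)
        rw [S.d_gpF hx9] at h2
        show _ ∈ Subgroup.centralizer ({t} : Set G)
        rw [Subgroup.mem_centralizer_singleton_iff]
        simpa [prodw] using h2.eq.symm
      exact h1 (Subgroup.mem_top y)
    rw [Subgroup.mem_centralizer_singleton_iff] at hy
    exact hy
  have hbot : Subgroup.center G = ⊥ := by
    refine ((inferInstance : (Subgroup.center G).Normal).eq_bot_or_eq_top).resolve_right fun htop => ?_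
    have hA : A ∈ Subgroup.center G := htop ▸ Subgroup.mem_top _
    have hfix := (S.commute_iff A (gpF 1)).1 (Subgroup.mem_center_iff.1 hA (d (gpF 1))).symm
    have := S.phi_d 0 (gpF 1)
    rw [d_zero, hfix, show ((0 : Fin N) : ℕ) = 0 from rfl, show ((gpF 1 : Fin N) : ℕ) = 2 from rfl,
      small_facts.1.1] at this
    exact absurd this (by norm_num)
  rwa [hbot, Subgroup.mem_bot] at hc

/-- The points fixed by `t`, as numbers. -/
def Fixed (t : G) (p : ℕ) : Prop := ∀ hp : p < 3510, S.φ t ⟨p, hp⟩ = ⟨p, hp⟩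

theorem mv_lt (p q : Fin N) : mv p q < 3510 := S.phi_d p q ▸ lt_of_pt _

theorem fixed_close (t : G) : ∀ (s : List (ℕ × ℕ)) (L : List ℕ),
    (∀ p ∈ L, p < 3510 ∧ S.Fixed t p) → ∀ p ∈ close s L, p < 3510 ∧ S.Fixed t p := by
  intro s
  induction s with
  | nil => intro L hL; exact hL
  | cons e s ih =>
    obtain ⟨p, q⟩ := e
    intro L hL
    show ∀ r ∈ (bif has L p && has L q then force (mv p q) fun r => close s (r :: L) else close s L), _
    cases hc : (has L p && has L q)
    · exact ih L hL
    · rw [cond_true, force_eq]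
      simp only [has, Bool.and_eq_true, List.any_eq_true, Nat.beq_eq] at hc
      obtain ⟨⟨_, hp, rfl⟩, _, hq, rfl⟩ := hc
      obtain ⟨hp, hfp⟩ := hL _ hp
      obtain ⟨hq, hfq⟩ := hL _ hq
      refine ih _ fun r hr => ?_
      rcases List.mem_cons.1 hr with rfl | hr
      · refine ⟨S.mv_lt ⟨p, hp⟩ ⟨q, hq⟩, fun hlt => ?_⟩
        have := S.fix_mv (hfp hp) (hfq hq)
        have he : S.φ (d ⟨p, hp⟩) ⟨q, hq⟩ = ⟨mv p q, hlt⟩ := Fin.ext (S.phi_d _ _)
        rwa [he] at this
      · exact hL r hr

theorem tx_spec (i : Fin N) :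
    (((S.φ X)⁻¹ i : Fin N) : ℕ) = ext tx i ∧ ((i : ℕ) ≠ 0 → ext tx i ≠ i) ∧
      walk (fun _ => tx) (List.replicate 11 0) i = i := by
  have h := allR_spec 12 0 tx_ok i (Nat.zero_le _) (by have := lt_of_pt i; omega)
  unfold txOK at h
  rw [show Nat.blt i.val 3510 = true by simpa using lt_of_pt i] at h
  simp only [cond_true, Bool.and_eq_true, Bool.or_eq_true, Nat.beq_eq, Bool.not_eq_true'] at h
  refine ⟨?_, fun h0 he => ?_, h.1.2⟩
  · rw [X, S.spec xw (fun x hx => by simpa using List.all_eq_true.mp small_facts.1.2.2.2.2.2 x hx) i]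
    exact h.1.1
  · rcases h.2 with h2 | h2
    · exact h0 h2
    · rw [he] at h2
      simp at h2

theorem walk_tx : ∀ (m : ℕ) (i : Fin N),
    ((((S.φ X)⁻¹ ^ m) i : Fin N) : ℕ) = walk (fun _ => tx) (List.replicate m 0) i := by
  intro m
  induction m with
  | zero => intro i; rfl
  | succ m ih =>
    intro i
    rw [pow_succ, Equiv.Perm.mul_apply, ih, (S.tx_spec i).1]
    rfl

theorem X_pow : X ^ 11 = 1 := by
  apply S.inj
  rw [map_pow, map_one, ← inv_eq_one, ← inv_pow]
  exact Equiv.ext fun i => Fin.ext ((S.walk_tx 11 i).trans (S.tx_spec i).2.2)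

theorem X_ne_one : X ≠ 1 := by
  intro h
  have h1 := (S.tx_spec (gpF 1)).1
  rw [h, map_one, inv_one, Equiv.Perm.one_apply] at h1
  exact (S.tx_spec (gpF 1)).2.1 (by show (2 : ℕ) ≠ 0; norm_num) h1.symm

theorem mem_orb : ∀ (f : ℕ) (r : Fin N) (q : ℕ), q ∈ orb f r →
    ∃ j : ℕ, (((S.φ X)⁻¹ ^ j) r : Fin N).val = q := by
  intro f
  induction f with
  | zero => intro r q h; simp [orb] at h
  | succ f ih =>
    intro r q h
    simp only [orb, force_eq, List.mem_cons] at h
    rcases h with rfl | h
    · exact ⟨0, rfl⟩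
    · rw [← (S.tx_spec r).1] at h
      obtain ⟨j, hj⟩ := ih _ q h
      exact ⟨j + 1, by rw [pow_succ, Equiv.Perm.mul_apply]; exact hj⟩

/-- An involution commuting with the element of order 11 is `a`. -/
theorem eq_A {t : G} (ht2 : t * t = 1) (ht1 : t ≠ 1) (hx : Commute t X) : t = A := by
  classical
  have hperm : ∀ (j : ℕ) (i : Fin N),
      S.φ t (((S.φ X)⁻¹ ^ j) i) = ((S.φ X)⁻¹ ^ j) (S.φ t i) := by
    intro j i
    have := ((hx.inv_right).pow_right j).map S.φ
    rw [map_pow, map_inv] at this
    exact DFunLike.congr_fun this.eq i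
  have h0 : S.φ t 0 = 0 := by
    by_contra hne
    refine (S.tx_spec (S.φ t 0)).2.1 (fun h => hne (Fin.ext h)) ?_
    rw [← (S.tx_spec _).1]
    refine congrArg Fin.val ?_
    have h1 := hperm 1 0
    rw [pow_one] at h1
    rw [← h1]
    refine congrArg (S.φ t) ?_
    by_contra hne'
    have h2 := (S.tx_spec ((S.φ X)⁻¹ 0)).1
    have hX0 : (((S.φ X)⁻¹ 0 : Fin N) : ℕ) = ext tx 0 := (S.tx_spec 0).1
    exact hne' (Fin.ext (hX0.trans (by decide +kernel)))
  have hinv : ∀ i, S.φ t (S.φ t i) = i := fun i => by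
    rw [← Equiv.Perm.mul_apply, ← map_mul, ht2, map_one, Equiv.Perm.one_apply]
  have hmv : ∀ p q : Fin N, S.φ t p = p → com p q = true → com p (S.φ t q) = true := by
    intro p q hp hc
    rw [S.com_iff] at hc ⊢
    rw [S.commute_iff] at hc ⊢
    rw [← Equiv.Perm.mul_apply, ← map_mul, ← ((S.commute_iff t p).2 hp).eq, map_mul,
      Equiv.Perm.mul_apply, hc]
  have hC : ∀ q : Fin N, inC q = true → inC (S.φ t q) = true := by
    intro q hq
    simp only [inC, Bool.and_eq_true, Bool.not_eq_true'] at hq ⊢
    refine ⟨?_, hmv 0 q h0 hq.2⟩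
    rw [← Bool.not_eq_true, Nat.beq_eq] at hq ⊢
    intro h
    have hq0 : S.φ t q = 0 := Fin.ext h
    have := hinv q
    rw [hq0, h0] at this
    exact hq.1 (by rw [← this]; rfl)
  -- a fixed point among the 693
  obtain ⟨q, hq, hqfix⟩ : ∃ q : Fin N, inC q = true ∧ S.φ t q = q := by
    let σ : {q : Fin N // inC q = true} → {q : Fin N // inC q = true} := fun q => ⟨S.φ t q.1, hC _ q.2⟩
    have hσ : Function.Involutive σ := fun q => Subtype.ext (hinv q.1)
    haveI : _root_.Fact (Nat.Prime 2) := ⟨Nat.prime_two⟩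
    have hcard : Fintype.card {q : Fin N // inC q = true} = 693 := by
      rw [← small_facts.2, cntR_spec, zero_add, Fintype.card_subtype, ← Finset.card_map Fin.valEmbedding]
      congr 1
    obtain ⟨a, ha⟩ := Equiv.Perm.exists_fixed_point_of_prime (p := 2) (n := 1)
      (by rw [hcard]; norm_num) (σ := hσ.toPerm σ)
      (Equiv.ext fun a => by rw [pow_one, pow_two, Equiv.Perm.mul_apply]; exact hσ a)
    exact ⟨a.1, a.2, congrArg Subtype.val ha⟩
  have horb : ∀ r : ℕ, r < 3510 → has (orb 11 r) q = true → ∀ p ∈ orb 11 r, p < 3510 ∧ S.Fixed t p := by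
    intro r hr hmem p hp
    simp only [has, List.any_eq_true, Nat.beq_eq] at hmem
    obtain ⟨_, hmem, rfl⟩ := hmem
    obtain ⟨j, hj⟩ := S.mem_orb 11 ⟨r, hr⟩ _ hmem
    obtain ⟨i, hi⟩ := S.mem_orb 11 ⟨r, hr⟩ p hp
    have hrfix : S.φ t ⟨r, hr⟩ = ⟨r, hr⟩ := by
      refine (((S.φ X)⁻¹ ^ j).injective ?_)
      rw [← hperm, Fin.ext hj, hqfix]
    subst hi
    exact ⟨lt_of_pt _, fun _ => (hperm i ⟨r, hr⟩).trans (congrArg _ hrfix)⟩
  have hr_lt : ∀ c ∈ casesA ++ casesB, c.1 < 3510 := by decide +kernel
  have htargets : ∀ p ∈ targets, p < 3510 ∧ S.Fixed t p := by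
    have hcov := allR_spec 12 0 covered_ok q (Nat.zero_le _) (by have := lt_of_pt q; omega)
    unfold covered at hcov
    rw [show (Nat.blt q.val 3510 && inC q) = true by rw [hq]; simpa using lt_of_pt q] at hcov
    simp only [cond_true, Bool.or_eq_true, List.any_eq_true] at hcov
    rcases hcov with ⟨c, hc, hm⟩ | ⟨c, hc, hm⟩
    · have h1 := List.all_eq_true.mp casesA_ok c hc
      intro p hp
      have h2 := List.all_eq_true.mp h1 p hp
      simp only [has, List.any_eq_true, Nat.beq_eq] at h2
      obtain ⟨_, h2, rfl⟩ := h2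
      exact S.fixed_close t _ _ (horb c.1 (hr_lt c (List.mem_append_left _ hc)) hm) _ h2
    · have h1 := List.all_eq_true.mp casesB_ok c hc
      have hbase : ∀ p ∈ baseB, p < 3510 ∧ S.Fixed t p := fun p hp => by
        have h2 := List.all_eq_true.mp h1 p hp
        simp only [has, List.any_eq_true, Nat.beq_eq] at h2
        obtain ⟨_, h2, rfl⟩ := h2
        exact S.fixed_close t _ _ (horb c.1 (hr_lt c (List.mem_append_right _ hc)) hm) _ h2
      -- one of three points is fixed
      have hpin : ∀ i : Fin N, inC i = true → (∀ p ∈ pinB, com p i = true) →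
          (i : ℕ) ∈ casesC.map Prod.fst := by
        intro i h1 h2
        have h3 := allR_spec 12 0 pin_ok i (Nat.zero_le _) (by have := lt_of_pt i; omega)
        unfold pinOK at h3
        rw [show (Nat.blt i.val 3510 && inC i && pinB.all fun p => com p i) = true by
          rw [h1, List.all_eq_true.mpr h2]; simpa using lt_of_pt i] at h3
        simpa [has] using h3
      have hsub : ∀ p ∈ pinB, p ∈ baseB := by decide +kernel
      have himg : ∀ i : Fin N, inC i = true → (∀ p ∈ pinB, com p i = true) →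
          inC (S.φ t i) = true ∧ ∀ p ∈ pinB, com p (S.φ t i) = true := fun i h1 h2 =>
        ⟨hC i h1, fun p hp => hmv ⟨p, (hbase p (hsub p hp)).1⟩ i ((hbase p (hsub p hp)).2 _) (h2 p hp)⟩
      have hCC : ∀ v ∈ casesC.map Prod.fst, v < 3510 ∧ inC v = true ∧ ∀ p ∈ pinB, com p v = true := by
        decide +kernel
      obtain ⟨f, hf, hffix⟩ : ∃ f ∈ casesC.map Prod.fst, S.Fixed t f := by
        have hmap : ∀ v ∈ casesC.map Prod.fst, ∀ hv : v < 3510,
            ((S.φ t ⟨v, hv⟩ : Fin N) : ℕ) ∈ casesC.map Prod.fst := fun v hv hlt =>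
          hpin _ (himg ⟨v, hlt⟩ (hCC v hv).2.1 (hCC v hv).2.2).1 (himg ⟨v, hlt⟩ (hCC v hv).2.1 (hCC v hv).2.2).2
        have hlist : casesC.map Prod.fst = [6, 544, 681] := rfl
        rw [hlist] at hmap ⊢
        by_contra hnone
        simp only [Fixed, List.mem_cons, List.not_mem_nil, or_false, not_exists, not_and] at hnone hmap
        have n6 := hnone 6 (Or.inl rfl)
        have n5 := hnone 544 (Or.inr (Or.inl rfl))
        have n8 := hnone 681 (Or.inr (Or.inr rfl))
        have m6 := hmap 6 (Or.inl rfl) (by norm_num)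
        have m5 := hmap 544 (Or.inr (Or.inl rfl)) (by norm_num)
        have m8 := hmap 681 (Or.inr (Or.inr rfl)) (by norm_num)
        simp only [forall_prop_of_true (show (6 : ℕ) < 3510 by norm_num)] at n6
        simp only [forall_prop_of_true (show (544 : ℕ) < 3510 by norm_num)] at n5
        simp only [forall_prop_of_true (show (681 : ℕ) < 3510 by norm_num)] at n8
        have key : ∀ (u v : ℕ) (hu : u < 3510) (hv : v < 3510), ((S.φ t ⟨u, hu⟩ : Fin N) : ℕ) = v →
            ((S.φ t ⟨v, hv⟩ : Fin N) : ℕ) = u := fun u v hu hv h => by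
          rw [show (⟨v, hv⟩ : Fin N) = S.φ t ⟨u, hu⟩ from Fin.ext h.symm, hinv]
        rcases m6 with h | h | h
        · exact n6 (Fin.ext h)
        · rcases m8 with h' | h' | h'
          · have := key 681 6 (by norm_num) (by norm_num) h'
            omega
          · have := key 681 544 (by norm_num) (by norm_num) h'
            have := key 6 544 (by norm_num) (by norm_num) h
            omega
          · exact n8 (Fin.ext h')
        · rcases m5 with h' | h' | h'
          · have := key 544 6 (by norm_num) (by norm_num) h'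
            omega
          · exact n5 (Fin.ext h')
          · have := key 544 681 (by norm_num) (by norm_num) h'
            have := key 6 681 (by norm_num) (by norm_num) h
            omega
      obtain ⟨c', hc', rfl⟩ := List.mem_map.mp hf
      intro p hp
      have h2 := List.all_eq_true.mp (List.all_eq_true.mp casesC_ok c' hc') p hp
      simp only [has, List.any_eq_true, Nat.beq_eq] at h2
      obtain ⟨_, h2, rfl⟩ := h2
      refine S.fixed_close t _ _ (fun r hr => ?_) _ h2
      rcases List.mem_cons.1 hr with rfl | hr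
      · exact ⟨(hCC _ hf).1, hffix⟩
      · exact hbase r hr
  -- the point of `b`
  have h7 : ∀ p ∈ ([16, 40, 88, 154, 43, 92, 26] : List ℕ), p ∈ targets := by decide
  have hb : ((S.φ t (gpF 1) : Fin N) : ℕ) = 1 ∨ ((S.φ t (gpF 1) : Fin N) : ℕ) = 2 := by
    have h3 := allR_spec 12 0 pinTwo_ok (S.φ t (gpF 1)) (Nat.zero_le _)
      (by have := lt_of_pt (S.φ t (gpF 1)); omega)
    unfold pinTwoOK at h3
    have hne : ((S.φ t (gpF 1) : Fin N) : ℕ) ≠ 0 := fun h => by
      have := hinv (gpF 1)
      rw [show S.φ t (gpF 1) = 0 from Fin.ext h, h0] at this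
      exact absurd (congrArg Fin.val this) (show (0 : ℕ) ≠ 2 by norm_num)
    rw [show (Nat.blt (S.φ t (gpF 1)).val 3510 && !(Nat.beq (S.φ t (gpF 1)).val 0) &&
        ([16, 40, 88, 154, 43, 92, 26] : List ℕ).all fun p => com p (S.φ t (gpF 1))) = true by
      simp only [Bool.and_eq_true, Bool.not_eq_true', List.all_eq_true, Nat.blt_eq]
      refine ⟨⟨lt_of_pt _, by rw [← Bool.not_eq_true, Nat.beq_eq]; exact hne⟩, fun p hp => ?_⟩
      exact hmv ⟨p, (htargets p (h7 p hp)).1⟩ (gpF 1) ((htargets p (h7 p hp)).2 _)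
        (List.all_eq_true.mp small_facts.1.2.2.2.2.1 p hp)] at h3
    simpa using h3
  have hrest : ∀ k, 2 ≤ k → k < 9 → S.φ t (gpF k) = gpF k ∧ S.φ A (gpF k) = gpF k := by
    intro k h2 h9
    have hm : gpt.getD k 0 ∈ targets := by interval_cases k <;> decide +kernel
    have hi := List.all_eq_true.mp small_facts.1.2.2.1 _ hm
    simp only [inC, Bool.and_eq_true] at hi
    refine ⟨(htargets _ hm).2 _, ?_⟩
    rw [← d_zero]
    exact (S.commute_iff _ _).1 ((S.com_iff 0 (gpF k)).1 hi.2)
  have hA0 : S.φ A 0 = 0 := (S.comm_zero A).2 (Commute.refl A)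
  have hA2 : ((S.φ A (gpF 1) : Fin N) : ℕ) = 1 := by
    rw [← d_zero, S.phi_d]; exact small_facts.1.1
  rcases hb with hb | hb
  · have htA : t * A = 1 := by
      refine S.eq_one_of_comm fun k hk => ?_
      rw [map_mul, Equiv.Perm.mul_apply]
      rcases (show k = 0 ∨ k = 1 ∨ 2 ≤ k by omega) with rfl | rfl | h2
      · exact (congrArg (S.φ t) hA0).trans h0
      · rw [show S.φ A (gpF 1) = S.φ t (gpF 1) from Fin.ext (hA2.trans hb.symm), hinv]
      · rw [(hrest k h2 hk).2, (hrest k h2 hk).1]
    calc t = t * (A * A) := by rw [A_mul_self, mul_one]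
      _ = A := by rw [← mul_assoc, htA, one_mul]
  · refine absurd (S.eq_one_of_comm fun k hk => ?_) ht1
    rcases (show k = 0 ∨ k = 1 ∨ 2 ≤ k by omega) with rfl | rfl | h2
    · exact h0
    · exact Fin.ext hb
    · exact (hrest k h2 hk).1

end Act

end

end CfsgLib.Fi22Out
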