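import Cfsg.Agent.Fi22Out.Search
import Cfsg.Agent.SporadicOut.Criterion

/-!
The outer automorphism group of `Cfsg.Spor.Fi22` has order 2.
-/

set_option autoImplicit false
set_option maxRecDepth 100000

namespace CfsgLib.Fi22Out

open CfsgLib.CosetEnum Cfsg.Spor

noncomputable section

theorem facts_11 : (64561751654400 : ℕ).factorization 11 = 1 := by
  have h : 64561751654400 = 11 ^ 1 * 5869250150400 := by norm_num
  rw [h, Nat.factorization_mul (by norm_num) (by norm_num), Nat.Prime.factorization_pow (by norm_num)]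
  simp [Nat.factorization_eq_zero_of_not_dvd (show ¬ 11 ∣ 5869250150400 by decide +kernel)]

theorem x_fix_zero : Nat.beq (ext tx 0) 0 = true := by decide +kernel

theorem gpo_lt (k : ℕ) : gpo.getD k 0 < 3510 := by
  by_cases h : k < 9
  · interval_cases k <;> decide +kernel
  · rw [List.getD_eq_default _ _ (show gpo.length ≤ k by simp [gpo]; omega)]
    norm_num

/-- The point of the image of a generator. -/
def goF (k : ℕ) : Fin N := ⟨gpo.getD k 0, gpo_lt k⟩

/-- The point 424. -/
def h424 : Fin N := ⟨424, show 424 < 3510 by norm_num⟩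

/-- The images of the generators. -/
def piFun : Fi22.Gen → G
  | .h => d h424
  | z => PresentedGroup.of z

/-- The twisted table. -/
def tbq (x : ℕ) : ℕ := bif Nat.beq x 7 then th else tb x

theorem th_ok : allR (fun i => bif Nat.blt i 3510 then Nat.beq (ext th i) (mv 424 i) else true) 12 0 = true := by
  decide +kernel

theorem tbq_ok : (Fi22.words.all fun w => fixesAll 3510 tbq w 12) = true := by decide +kernel

/-- No point of the second action is fixed by the images of the last eight generators. -/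
theorem no_fixed : allR (fun i => bif Nat.blt i 14080 &&
    (([1, 2, 3, 4, 5, 6, 8] : List ℕ).all fun k => Nat.beq (walk Fi22O.tb [k] i) i) then
      !(Nat.beq (walk Fi22O.tb (dw 424) i) i) else true) 14 0 = true := by
  decide +kernel

namespace Act

variable (S : Act)
include S

theorem piFun_walk (x : ℕ) (hx : x < 9) (i : Fin N) :
    ((S.φ (piFun (Fi22.en x)))⁻¹ i).val = T tbq x i := by
  by_cases h7 : x = 7
  · subst h7
    have h := allR_spec 12 0 th_ok i (Nat.zero_le _) (by have := lt_of_pt i; omega)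
    rw [show Nat.blt i.val 3510 = true by simpa using lt_of_pt i] at h
    show ((S.φ (d h424))⁻¹ i).val = ext th i
    rw [show ext th i = mv 424 i from Nat.eq_of_beq_eq_true h]
    exact S.spec _ (dw_lt (lt_of_pt _)) i
  · have he : piFun (Fi22.en x) = prodw Fi22.setup.g [x] := by
      rw [prodw_cons, prodw_nil, mul_one]
      interval_cases x <;> first | rfl | omega
    rw [he, S.spec [x] (by simpa using hx)]
    show T tb x i = _
    rw [T, T, tbq, show Nat.beq x 7 = false by rw [← Bool.not_eq_true, Nat.beq_eq]; exact h7]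
    rfl

theorem piFun_word : ∀ w : List ℕ, (∀ x ∈ w, x < 9) → ∀ i : Fin N,
    ((S.φ (prodw (piFun ∘ Fi22.en) w))⁻¹ i).val = walk tbq w i := by
  intro w
  induction w with
  | nil => intro _ i; rw [prodw_nil, map_one, inv_one]; rfl
  | cons x w ih =>
    intro hw i
    rw [prodw_cons, map_mul, mul_inv_rev, Equiv.Perm.mul_apply, ih fun y hy => hw y (List.mem_cons_of_mem x hy)]
    show walk tbq w _ = walk tbq w (T tbq x i)
    congr 1
    exact S.piFun_walk x (hw x List.mem_cons_self) i

theorem piFun_rels : ∀ r ∈ coxRelators Fi22.edges ∪ {r | r ∈ Fi22.extra}, FreeGroup.lift piFun r = 1 := by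
  have hsq : ∀ z, piFun z * piFun z = 1 := fun z => by
    cases z <;> first | exact d_mul_self _ | exact Fi22.setup.of_sq _
  have hlt : (Fi22.words.all fun w => w.all fun x => Nat.blt x 9) = true := by decide +kernel
  have hone : ∀ w ∈ Fi22.words, prodw (piFun ∘ Fi22.en) w = 1 := by
    intro w hw
    have hw9 : ∀ x ∈ w, x < 9 := fun x hx => by
      simpa using List.all_eq_true.mp (List.all_eq_true.mp hlt w hw) x hx
    apply S.inj
    rw [map_one, ← inv_eq_one]
    ext i
    rw [S.piFun_word w hw9 i]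
    have h1 := allR_spec 12 0 (List.all_eq_true.mp tbq_ok w hw) i (Nat.zero_le _)
      (by have := lt_of_pt i; omega)
    rw [show Nat.blt i.val 3510 = true by simpa using lt_of_pt i] at h1
    simpa using h1
  have hwords : Fi22.words = coxWords Fi22.en 9 Fi22.edges ++ Fi22.exW := Fi22.setup.words_eq
  have hpair : ∀ i j, i < 9 → j < 9 → i ≤ j →
      (piFun (Fi22.en i) * piFun (Fi22.en j)) ^ coxLabel Fi22.edges (Fi22.en i) (Fi22.en j) = 1 := by
    intro i j hi hj hij
    have := hone ((List.replicate (coxLabel Fi22.edges (Fi22.en i) (Fi22.en j)) [i, j]).flatten) (by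
      rw [hwords]; exact List.mem_append_left _ (mem_coxWords.mpr ⟨i, j, hi, hj, hij, rfl⟩))
    rw [prodw_replicate] at this
    simpa [prodw] using this
  rintro r (⟨p, -, q, -, rfl⟩ | hr)
  · rw [map_pow, map_mul, FreeGroup.lift_apply_of, FreeGroup.lift_apply_of]
    rcases le_total (Fi22.ix p) (Fi22.ix q) with h | h
    · have := hpair _ _ (Fi22.setup.ix_lt p) (Fi22.setup.ix_lt q) h
      rwa [show Fi22.en (Fi22.setup.ix p) = p from Fi22.setup.en_ix p,
        show Fi22.en (Fi22.setup.ix q) = q from Fi22.setup.en_ix q] at this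
    · have := hpair _ _ (Fi22.setup.ix_lt q) (Fi22.setup.ix_lt p) h
      rw [show Fi22.en (Fi22.setup.ix p) = p from Fi22.setup.en_ix p,
        show Fi22.en (Fi22.setup.ix q) = q from Fi22.setup.en_ix q, coxLabel_symm] at this
      have h' : piFun p * piFun q = (piFun q * piFun p)⁻¹ := by
        rw [mul_inv_rev, inv_eq_of_mul_eq_one_right (hsq p), inv_eq_of_mul_eq_one_right (hsq q)]
      rw [h', inv_pow, this, inv_one]
  · have hm : FreeGroup.lift piFun r ∈ Fi22.extra.map (FreeGroup.lift piFun) := List.mem_map_of_mem hr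
    rw [Fi22.exW_eq G piFun hsq] at hm
    obtain ⟨w, hw, hw'⟩ := List.mem_map.mp hm
    rw [← hw']
    exact hone w (by rw [hwords]; exact List.mem_append_right _ hw)

theorem piFun_eq (k : ℕ) (hk : k < 9) : piFun (Fi22.en k) = d (goF k) := by
  by_cases h7 : k = 7
  · subst h7; rfl
  · have h : goF k = gpF k := Fin.ext (by interval_cases k <;> first | rfl | omega)
    rw [h, S.d_gpF hk]
    interval_cases k <;> first | rfl | omega

/-- The outer automorphism. -/
theorem exists_pi : ∃ π : MulAut G, ∀ k, k < 9 → π (Fi22.setup.g k) = d (goF k) := by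
  haveI := Fi22.finite_grp
  haveI : IsSimpleGroup G := Fi22.isSimpleGroup_Fi22
  let f : G →* G := PresentedGroup.toGroup (f := piFun) (S.piFun_rels)
  have hf : ∀ k, f (Fi22.setup.g k) = piFun (Fi22.en k) := fun k => PresentedGroup.toGroup.of _
  have hker : f.ker = ⊥ := by
    refine (f.normal_ker.eq_bot_or_eq_top).resolve_right fun h => ?_
    have h1 : Fi22.setup.g 0 ∈ f.ker := h ▸ Subgroup.mem_top _
    rw [MonoidHom.mem_ker, hf, S.piFun_eq 0 (by norm_num)] at h1
    have h2 := S.phi_d (goF 0) (gpF 1)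
    rw [h1, map_one, Equiv.Perm.one_apply] at h2
    exact absurd (h2.trans small_facts.1.1) (show (2 : ℕ) ≠ 1 by norm_num)
  have hinj : Function.Injective f := (MonoidHom.ker_eq_bot_iff f).mp hker
  refine ⟨MulEquiv.ofBijective f (Finite.injective_iff_bijective.mp hinj), fun k hk => ?_⟩
  exact (hf k).trans (S.piFun_eq k hk)

theorem not_inner (π : MulAut G) (hπ : ∀ k, k < 9 → π (Fi22.setup.g k) = d (goF k)) (g : G) :
    ∃ k : Fin 9, g * Fi22.setup.g k * g⁻¹ ≠ π (Fi22.setup.g k) := by
  by_contra hall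
  simp only [not_exists, ne_eq, not_not] at hall
  obtain ⟨ψ, -, hψ, -, -⟩ := Fi22O.action
  set i := ψ g 0 with hi
  have hzero : ∀ k, 1 ≤ k → k < 9 → ψ (Fi22.setup.g k) 0 = 0 := by
    intro k h1 h9
    have h2 := hψ [k] (by intro x hx; simp at hx; subst hx; exact h9) 0
    rw [prodw_cons, prodw_nil, mul_one] at h2
    have hm : [k] ∈ Fi22O.sW := by interval_cases k <;> decide
    have h3 := Nat.eq_of_beq_eq_true (List.all_eq_true.mp Fi22O.fixesZero _ hm)
    have h4 : (ψ (Fi22.setup.g k))⁻¹ 0 = 0 := Fin.ext (h2.trans h3)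
    exact (Equiv.Perm.inv_eq_iff_eq.mp h4).symm
  have hfix : ∀ k, 1 ≤ k → k < 9 → ψ (d (goF k)) i = i := by
    intro k h1 h9
    rw [← hπ k h9, ← hall ⟨k, h9⟩, map_mul, map_mul, Equiv.Perm.mul_apply, Equiv.Perm.mul_apply, hi,
      map_inv, Equiv.Perm.inv_def, Equiv.symm_apply_apply, hzero k h1 h9]
  have hw : ∀ k, 1 ≤ k → k < 9 → walk Fi22O.tb (dw (goF k)) i = i := by
    intro k h1 h9
    have h2 := hψ (dw (goF k)) (dw_lt (lt_of_pt _)) i
    change (((ψ (d (goF k)))⁻¹ i : Fin Fi22O.enum.n) : ℕ) = _ at h2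
    rw [← map_inv, d_inv, hfix k h1 h9] at h2
    exact h2.symm
  have hlt : (i : ℕ) < 14080 := i.2
  have hplain : ∀ k, 1 ≤ k → k < 9 → k ≠ 7 → walk Fi22O.tb [k] i = i := by
    intro k h1 h9 h7
    have hg : goF k = gpF k := Fin.ext (by interval_cases k <;> first | rfl | omega)
    have h2 := hψ [k] (by intro x hx; simp at hx; subst hx; exact h9) i
    rw [prodw_cons, prodw_nil, mul_one, ← S.d_gpF h9, ← hg, ← map_inv, d_inv, hfix k h1 h9] at h2
    exact h2.symm
  have h3 := allR_spec 14 0 no_fixed i (Nat.zero_le _) (by omega)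
  rw [show (Nat.blt i.val 14080 && ([1, 2, 3, 4, 5, 6, 8] : List ℕ).all fun k =>
      Nat.beq (walk Fi22O.tb [k] i) i) = true by
    simp only [Bool.and_eq_true, List.all_eq_true, Nat.blt_eq, Nat.beq_eq]
    refine ⟨hlt, fun k hk => ?_⟩
    simp only [List.mem_cons, List.not_mem_nil, or_false] at hk
    exact hplain k (by omega) (by omega) (by omega)] at h3
  have h7 := hw 7 (by norm_num) (by norm_num)
  rw [show ((goF 7 : Fin N) : ℕ) = 424 from rfl] at h7
  rw [h7] at h3
  simp at h3

/-- After an inner automorphism, every automorphism fixes `a`. -/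
theorem exists_fix_A (α : MulAut G) : ∃ g : G, g * α A * g⁻¹ = A := by
  haveI := Fi22.finite_grp
  haveI : _root_.Fact (Nat.Prime 11) := ⟨by norm_num⟩
  have hX : orderOf X = 11 := orderOf_eq_prime S.X_pow S.X_ne_one
  have hXA : Commute X A := by
    refine (S.comm_zero X).1 ?_
    have h : (S.φ X)⁻¹ 0 = 0 := Fin.ext ((S.tx_spec 0).1.trans (Nat.eq_of_beq_eq_true x_fix_zero))
    exact (Equiv.Perm.inv_eq_iff_eq.mp h).symm
  have hαX : orderOf (α X) = 11 := by rw [MulEquiv.orderOf_eq, hX]
  have hfac : (Nat.card G).factorization 11 = 1 := by rw [S.card]; exact facts_11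
  have hp : ∀ z : G, orderOf z = 11 → Nat.card (Subgroup.zpowers z) = 11 ^ (Nat.card G).factorization 11 :=
    fun z hz => by rw [Nat.card_zpowers, hz, hfac, pow_one]
  obtain ⟨g, hg⟩ := MulAction.exists_smul_eq G (Sylow.ofCard _ (hp _ hαX)) (Sylow.ofCard _ (hp _ hX))
  refine ⟨g, ?_⟩
  have hgz : g * α X * g⁻¹ ∈ Subgroup.zpowers X := by
    have hm : g * α X * g⁻¹ ∈ ((g • Sylow.ofCard _ (hp _ hαX) : Sylow 11 G) : Subgroup G) := by
      rw [Sylow.coe_subgroup_smul, Subgroup.mem_pointwise_smul_iff_inv_smul_mem]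
      simp [mul_assoc]
    rw [hg] at hm
    exact hm
  have heq : Subgroup.zpowers (g * α X * g⁻¹) = Subgroup.zpowers X := by
    refine Subgroup.eq_of_le_of_card_ge (Subgroup.zpowers_le.mpr hgz) ?_
    rw [Nat.card_zpowers, Nat.card_zpowers, hX]
    rw [show g * α X * g⁻¹ = MulAut.conj g (α X) from rfl, MulEquiv.orderOf_eq, hαX]
  have hc : Commute (g * α A * g⁻¹) (g * α X * g⁻¹) := ((hXA.symm).map α).map (MulAut.conj g)
  obtain ⟨m, hm⟩ := Subgroup.mem_zpowers_iff.mp (heq ▸ Subgroup.mem_zpowers X : X ∈ Subgroup.zpowers (g * α X * g⁻¹))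
  refine S.eq_A ?_ ?_ (hm ▸ hc.zpow_right m)
  · rw [show g * α A * g⁻¹ = MulAut.conj g (α A) from rfl, ← map_mul, ← map_mul, A_mul_self, map_one, map_one]
  · intro h
    rw [show g * α A * g⁻¹ = MulAut.conj g (α A) from rfl, MulEquiv.map_eq_one_iff,
      MulEquiv.map_eq_one_iff] at h
    have h2 := S.phi_d 0 (gpF 1)
    rw [d_zero, h, map_one, Equiv.Perm.one_apply] at h2
    exact absurd (h2.trans small_facts.1.1) (show (2 : ℕ) ≠ 1 by norm_num)

theorem card_out : Nat.card (Cfsg.Out G) = 2 := by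
  obtain ⟨π, hπ⟩ := S.exists_pi
  refine CfsgLib.SporadicOut.card_out_eq_two (fun k : Fin 9 => Fi22.setup.g k) ?_ π ?_ (S.not_inner π hπ)
  · rw [eq_top_iff, ← Fi22.setup.letSub_all (List.range 9) (fun x hx => List.mem_range.mpr hx)]
    refine (Subgroup.closure_le _).mpr ?_
    rintro _ ⟨x, hx, rfl⟩
    exact Subgroup.subset_closure ⟨⟨x, List.mem_range.mp hx⟩, by simp [prodw]⟩
  intro α
  obtain ⟨g, hg⟩ := S.exists_fix_A α
  let β : MulAut G := MulAut.conj g * α
  have hβA : β A = A := hg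
  let P : ℕ → Fin N := fun k => S.φ (β (prodw Fi22.setup.g (pw (gpt.getD k 0))))⁻¹ 0
  have hβd : ∀ k, k < 9 → β (Fi22.setup.g k) = d (P k) := by
    intro k hk
    rw [← S.d_gpF hk, d_eq, map_mul, map_mul, map_inv, hβA, ← S.conj_A, inv_inv]
    rfl
  have hg_inj : ∀ i j, i < 9 → j < 9 → i ≠ j → gpF i ≠ gpF j := by
    intro i j hi hj hij h
    have := congrArg Fin.val h
    change gpt.getD i 0 = gpt.getD j 0 at this
    interval_cases i <;> interval_cases j <;> first | omega | (simp [gpt] at this)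
  have hne : ∀ i j, i < 9 → j < 9 → i ≠ j → P i ≠ P j := by
    intro i j hi hj hij h
    refine hg_inj i j hi hj hij (S.d_inj ?_)
    rw [S.d_gpF hi, S.d_gpF hj]
    exact β.injective (by rw [hβd i hi, hβd j hj, h])
  have hcom : ∀ i j, i < 9 → j < 9 → i ≠ j → com (P i) (P j) = com (gpt.getD i 0) (gpt.getD j 0) := by
    intro i j hi hj _
    show _ = com (gpF i) (gpF j)
    rw [Bool.eq_iff_iff, S.com_iff, S.com_iff, ← hβd i hi, ← hβd j hj, S.d_gpF hi, S.d_gpF hj]
    exact ⟨fun h => by simpa using h.map β.symm, fun h => h.map β⟩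
  have h0 : P 0 = 0 := by
    refine S.d_inj ?_
    rw [← hβd 0 (by norm_num), d_zero]
    exact hβA
  have hfin : ∀ (L : List ℕ) (F : ℕ → Fin N), L.length = 9 → (∀ k, (F k : ℕ) = L.getD k 0) →
      S.Reached P L → ∃ y : G, ∀ k : Fin 9, y * g * α (Fi22.setup.g k) * (y * g)⁻¹ = d (F k) := by
    rintro L F hL hF ⟨y, hy⟩
    refine ⟨y, fun k => ?_⟩
    have h1 : S.φ y (P k) = F k := Fin.ext ((hy k (hL.symm ▸ k.2)).trans (hF k).symm)
    rw [S.d_conj h1, ← hβd k k.2]
    show _ = y * (g * α (Fi22.setup.g k) * g⁻¹) * y⁻¹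
    group
  rcases S.exists_leaf P h0 hne hcom with h | h
  · obtain ⟨y, hy⟩ := hfin gpt gpF rfl (fun _ => rfl) h
    exact ⟨y * g, Or.inl fun k => (hy k).trans (S.d_gpF k.2)⟩
  · obtain ⟨y, hy⟩ := hfin gpo goF rfl (fun _ => rfl) h
    exact ⟨y * g, Or.inr fun k => (hy k).trans (hπ k k.2).symm⟩

end Act

/-- The outer automorphism group of the Fischer group Fi22 has order 2. -/
theorem card_out_Fi22 : Nat.card (Cfsg.Out Cfsg.Spor.Fi22) = 2 := by
  obtain ⟨S⟩ := exists_act
  exact S.card_out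

end

end CfsgLib.Fi22Out
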