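import Cfsg.Agent.CosetEnum.Fi22Simple.Final

/-!
The 3510 points of `Cfsg.Spor.Fi22` as the conjugates of the generator `a`: the word of a point,
the reflection table and the dictionary between commuting and fixing.
-/

set_option autoImplicit false
set_option maxRecDepth 100000

namespace CfsgLib.Fi22Out

open CfsgLib.CosetEnum

noncomputable section

/-- The presented group. -/
abbrev G : Type := Fi22.setup.Grp

/-- The number of points. -/
abbrev N : ℕ := Fi22H.enum.n

/-- The table of a letter. -/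
abbrev tb : ℕ → ℕ := Fi22H.tb

/-- The tree word of a point. -/
def pwF (i : ℕ) : ℕ → List ℕ
  | 0 => []
  | f + 1 => bif Nat.beq i 0 then [] else
      force (ext Fi22H.parX i) fun x => force (ext Fi22H.parN i) fun j => pwF j f ++ [x]

/-- The tree word of a point. -/
def pw (i : ℕ) : List ℕ := pwF i 40

/-- The word of the transposition at a point. -/
def dw (i : ℕ) : List ℕ := (fun l => l.reverse ++ 0 :: l) (pw i)

/-- The transposition at the first point moves the second one to this point. -/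
def mv (p q : ℕ) : ℕ := walk tb (dw p) q

/-- The two points commute. -/
def com (p q : ℕ) : Bool := Nat.beq (mv p q) q

/-- The tree words are valid. -/
def pwOK (i : ℕ) : Bool :=
  bif Nat.blt i 3510 then Nat.beq (walk tb (pw i) 0) i && (pw i).all (fun x => Nat.blt x 9) else true

theorem pw_ok : allR pwOK 12 0 = true := by decide +kernel

theorem pw_spec {i : ℕ} (hi : i < 3510) : walk tb (pw i) 0 = i ∧ ∀ x ∈ pw i, x < 9 := by
  have h := allR_spec 12 0 pw_ok i (Nat.zero_le _) (by omega)
  unfold pwOK at h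
  rw [show Nat.blt i 3510 = true by simpa using hi] at h
  simpa [List.all_eq_true] using h

theorem dw_lt {i : ℕ} (hi : i < 3510) : ∀ x ∈ dw i, x < 9 := by
  intro x hx
  simp only [dw, List.mem_append, List.mem_reverse, List.mem_cons] at hx
  rcases hx with h | rfl | h
  · exact (pw_spec hi).2 x h
  · norm_num
  · exact (pw_spec hi).2 x h

theorem lt_of_pt (i : Fin N) : (i : ℕ) < 3510 := i.2

theorem rev_word (w : List ℕ) (hw : ∀ x ∈ w, x < 9) :
    prodw Fi22.setup.g w.reverse = (prodw Fi22.setup.g w)⁻¹ := by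
  have := prodw_rev_iv Fi22.setup.g Fi22.setup.k id (fun x h h' => Fi22.setup.hiv x h h') w
    (fun y hy => ⟨hw y hy, hw y hy⟩)
  simpa using this

/-- The generator `a`. -/
def A : G := Fi22.setup.g 0

/-- The transposition at a point. -/
def d (i : Fin N) : G := prodw Fi22.setup.g (dw i)

theorem A_mul_self : A * A = 1 := Fi22.setup.of_sq _

theorem d_eq (i : Fin N) : d i = (prodw Fi22.setup.g (pw i))⁻¹ * A * prodw Fi22.setup.g (pw i) := by
  rw [d, dw, prodw_append, prodw_cons, rev_word _ (pw_spec (lt_of_pt i)).2, mul_assoc]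
  rfl

theorem d_mul_self (i : Fin N) : d i * d i = 1 := by
  rw [d_eq]
  calc _ = (prodw Fi22.setup.g (pw i))⁻¹ * (A * A) * prodw Fi22.setup.g (pw i) := by group
    _ = 1 := by rw [A_mul_self]; group

theorem d_inv (i : Fin N) : (d i)⁻¹ = d i := inv_eq_of_mul_eq_one_right (d_mul_self i)

/-- The facts about the action on points. -/
structure Act where
  φ : G →* Equiv.Perm (Fin N)
  inj : Function.Injective φ
  spec : ∀ w : List ℕ, (∀ x ∈ w, x < 9) → ∀ i : Fin N, ((φ (prodw Fi22.setup.g w))⁻¹ i).val = walk tb w i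
  comm_zero : ∀ y : G, φ y 0 = 0 ↔ Commute y A
  card : Nat.card G = 64561751654400

theorem gens_fix : Fi22H.sW.all (fun w => allR (sameWord 3510 tb (w ++ [0]) (0 :: w)) 12 0) = true := by
  decide +kernel

theorem moves_b : Nat.beq (walk tb [0, 1, 0, 1] 0) 0 = false := by decide +kernel

theorem exists_act : Nonempty Act := by
  haveI := Fi22.finite_grp
  obtain ⟨φ, e, hφ, he, he0, hinj, hcard⟩ := Fi22.order_and_action
  have hle : Fi22H.enum.H ≤ Subgroup.centralizer {A} := by
    refine (Subgroup.closure_le _).mpr ?_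
    rintro _ ⟨s, hs, rfl⟩
    have hs' : s < Fi22H.sW.length := hs
    have hw : Fi22H.sW.getD s [] ∈ Fi22H.sW := by
      rw [List.getD_eq_getElem _ _ hs']; exact List.getElem_mem hs'
    have hlt : ∀ x ∈ Fi22H.sW.getD s [], x < 9 := Fi22H.enum.sW_lt _ hw
    have key := prodw_eq_of_sameWord (S := Fi22.setup) hinj hφ (Fi22H.sW.getD s [] ++ [0])
      (0 :: Fi22H.sW.getD s [])
      (fun x hx => (List.mem_append.1 hx).elim (hlt x) (fun h => by simp at h; subst h; decide))
      (fun x hx => (List.mem_cons.1 hx).elim (fun h => by subst h; decide) (hlt x))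
      (show 3510 ≤ 2 ^ 12 by norm_num) (List.all_eq_true.mp gens_fix _ hw)
    rw [prodw_append, prodw_cons, prodw_cons, prodw_nil, mul_one] at key
    show _ ∈ Subgroup.centralizer {A}
    rw [Subgroup.mem_centralizer_singleton_iff]
    exact key
  have hne : Subgroup.centralizer ({A} : Set G) ≠ ⊤ := by
    intro h
    have hb : Fi22.setup.g 1 ∈ Subgroup.centralizer ({A} : Set G) := h ▸ Subgroup.mem_top _
    rw [Subgroup.mem_centralizer_singleton_iff] at hb
    refine prodw_ne_one_of_moves (S := Fi22.setup) hφ [0, 1, 0, 1]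
      (show ∀ x ∈ [0, 1, 0, 1], x < 9 by decide) 0 (show 0 < 3510 by norm_num) moves_b ?_
    simp only [prodw_cons, prodw_nil, mul_one]
    show A * (Fi22.setup.g 1 * (A * Fi22.setup.g 1)) = 1
    rw [← mul_assoc (Fi22.setup.g 1), hb]
    calc A * (A * Fi22.setup.g 1 * Fi22.setup.g 1)
        = (A * A) * (Fi22.setup.g 1 * Fi22.setup.g 1) := by group
      _ = 1 := by rw [A_mul_self, show Fi22.setup.g 1 * Fi22.setup.g 1 = 1 from Fi22.setup.of_sq _, one_mul]
  have hH := (Fi22H.maximal φ e hφ he he0 hle).resolve_right hne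
  refine ⟨⟨φ, hinj, hφ, fun y => ?_, hcard⟩⟩
  have h1 : φ y 0 = e (y : G ⧸ Fi22H.enum.H) := by
    rw [← he0, ← he y ((1 : G) : G ⧸ Fi22H.enum.H), MulAction.Quotient.smul_coe, smul_eq_mul, mul_one]
  constructor
  · intro h
    have h2 : y ∈ Fi22H.enum.H := by
      have := e.injective (h1.symm.trans (h.trans he0.symm))
      simpa using QuotientGroup.eq.mp this.symm
    rw [← hH, Subgroup.mem_centralizer_singleton_iff] at h2
    exact h2
  · intro h
    have h2 : y ∈ Fi22H.enum.H := by
      rw [← hH, Subgroup.mem_centralizer_singleton_iff]; exact h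
    rw [h1, ← he0]
    refine congrArg e ?_
    rw [QuotientGroup.eq]
    simpa using inv_mem h2

namespace Act

variable (S : Act)

theorem pw_zero (i : Fin N) : S.φ (prodw Fi22.setup.g (pw i))⁻¹ 0 = i := by
  apply Fin.ext
  rw [map_inv, S.spec _ (pw_spec (lt_of_pt i)).2]
  simpa using (pw_spec (lt_of_pt i)).1

theorem d_conj {y : G} {i j : Fin N} (h : S.φ y i = j) : d j = y * d i * y⁻¹ := by
  set ri := prodw Fi22.setup.g (pw i)
  set rj := prodw Fi22.setup.g (pw j)
  have h0 : S.φ (rj * y * ri⁻¹) 0 = 0 := by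
    rw [map_mul, map_mul, Equiv.Perm.mul_apply, Equiv.Perm.mul_apply, S.pw_zero i, h]
    have := S.pw_zero j
    rw [map_inv, Equiv.Perm.inv_eq_iff_eq] at this
    exact this.symm
  have hc : rj * y * ri⁻¹ * A = A * (rj * y * ri⁻¹) := ((S.comm_zero _).1 h0).eq
  rw [d_eq, d_eq]
  calc rj⁻¹ * A * rj = rj⁻¹ * (A * (rj * y * ri⁻¹)) * ri * y⁻¹ := by group
    _ = rj⁻¹ * (rj * y * ri⁻¹ * A) * ri * y⁻¹ := by rw [hc]
    _ = y * (ri⁻¹ * A * ri) * y⁻¹ := by group

theorem d_zero : d (0 : Fin N) = A := by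
  rw [d_eq]
  have : pw ((0 : Fin N) : ℕ) = [] := by
    show pwF 0 40 = []
    rfl
  rw [this, prodw_nil, inv_one, one_mul, mul_one]

theorem conj_A (y : G) : y * A * y⁻¹ = d (S.φ y 0) := by
  rw [S.d_conj (i := 0) (j := S.φ y 0) (y := y) rfl, d_zero]

include S in
theorem d_inj {i j : Fin N} (h : d i = d j) : i = j := by
  set ri := prodw Fi22.setup.g (pw i)
  set rj := prodw Fi22.setup.g (pw j)
  rw [d_eq, d_eq] at h
  have hc : Commute (rj * ri⁻¹) A := by
    show rj * ri⁻¹ * A = A * (rj * ri⁻¹)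
    calc rj * ri⁻¹ * A = rj * (ri⁻¹ * A * ri) * ri⁻¹ := by group
      _ = rj * (rj⁻¹ * A * rj) * ri⁻¹ := by rw [h]
      _ = _ := by group
  have h0 := (S.comm_zero _).2 hc
  rw [map_mul, Equiv.Perm.mul_apply, S.pw_zero i] at h0
  rw [← S.pw_zero j, map_inv]
  exact (Equiv.Perm.eq_inv_iff_eq.mpr h0)

theorem commute_iff (y : G) (q : Fin N) : Commute y (d q) ↔ S.φ y q = q := by
  constructor
  · intro h
    refine (S.d_inj ?_).symm
    rw [S.d_conj (i := q) (j := S.φ y q) (y := y) rfl, h.eq]
    group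
  · intro h
    have := S.d_conj h
    show y * d q = d q * y
    conv_rhs => rw [this]
    group

theorem phi_d (p q : Fin N) : ((S.φ (d p) q : Fin N) : ℕ) = mv p q := by
  conv_lhs => rw [← d_inv p, map_inv]
  exact S.spec _ (dw_lt (lt_of_pt p)) q

include S in
theorem com_iff (p q : Fin N) : com p q = true ↔ Commute (d p) (d q) := by
  rw [S.commute_iff, com, Nat.beq_eq, ← S.phi_d p q, Fin.val_inj]

theorem fix_mv {t : G} {p q : Fin N} (hp : S.φ t p = p) (hq : S.φ t q = q) :
    S.φ t (S.φ (d p) q) = S.φ (d p) q := by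
  have hc := (S.commute_iff t p).2 hp
  rw [← Equiv.Perm.mul_apply, ← map_mul, hc.eq, map_mul, Equiv.Perm.mul_apply, hq]

end Act

end

end CfsgLib.Fi22Out
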