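import Cfsg.Agent.Fi22Out.Fixed

/-!
Up to conjugation there are two families of nine transpositions of `Cfsg.Spor.Fi22` with the
commuting pattern of the generators.
-/

set_option autoImplicit false
set_option maxRecDepth 100000

namespace CfsgLib.Fi22Out

open CfsgLib.CosetEnum

noncomputable section

/-- A candidate for the next point after a prefix. -/
def cand (Q : List ℕ) (q : ℕ) : Bool :=
  (List.range Q.length).all fun i => !(Nat.beq q (Q.getD i 0)) &&
    (com (Q.getD i 0) q == com (gpt.getD i 0) (gpt.getD Q.length 0))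

/-- The words of the stabilising reflections. -/
def genW (nd : Node) (s : ℕ) : List ℕ := bif Nat.blt s nd.gens.length then dw (nd.gens.getD s 0) else []

/-- The orbit of a root. -/
def rootR (nd : Node) (r : ℕ × ℕ × ℕ) : ℕ := reach tb (genW nd) r.2.1 r.2.2 r.1

/-- All orbits of a node. -/
def unionR (nd : Node) : ℕ := nd.roots.foldr (fun r acc => Nat.lor (rootR nd r) acc) 0

/-- The orbits cover the candidates. -/
def coverOK (nd : Node) : Bool :=
  force (unionR nd) fun U => allR (fun i => bif Nat.blt i 3510 && cand nd.pre i then bit U i else true) 12 0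

/-- The reflections fix the prefix. -/
def gensOK (nd : Node) : Bool := nd.gens.all fun p => Nat.blt p 3510 && nd.pre.all (fun q => com p q)

/-- Every root leads to a node or to one of the two leaves. -/
def nextOK (nd : Node) : Bool :=
  nd.roots.all fun r => Nat.blt r.1 3510 &&
    bif Nat.beq (nd.pre.length + 1) 9 then nd.pre ++ [r.1] == gpt || nd.pre ++ [r.1] == gpo
    else nodes.any fun m => m.pre == nd.pre ++ [r.1]

theorem cover_ok : nodes.all coverOK = true := by decide +kernel
theorem gens_ok : nodes.all gensOK = true := by decide +kernel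
theorem next_ok : nodes.all nextOK = true := by decide +kernel
theorem pre_lt : (nodes.all fun nd => nd.pre.all fun q => Nat.blt q 3510) = true := by decide +kernel
theorem first_node : (nodes.any fun nd => nd.pre == [0]) = true := by decide +kernel

theorem bit_lor (a b i : ℕ) : bit (Nat.lor a b) i = (bit a i || bit b i) := by
  simp only [bit_eq]
  exact Nat.testBit_lor a b i

namespace Act

variable (S : Act)
include S

theorem com_map (y : G) (p q : Fin N) : com (S.φ y p) (S.φ y q) = com p q := by
  rw [Bool.eq_iff_iff, S.com_iff, S.com_iff, S.d_conj (i := p) (y := y) rfl,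
    S.d_conj (i := q) (y := y) rfl]
  constructor
  · intro h
    have := h.map (MulAut.conj y⁻¹)
    simpa [mul_assoc] using this
  · intro h
    exact h.map (MulAut.conj y)

theorem mem_union (nd : Node) : ∀ (Rs : List (ℕ × ℕ × ℕ)) (i : ℕ),
    bit (Rs.foldr (fun r acc => Nat.lor (rootR nd r) acc) 0) i = true →
      ∃ r ∈ Rs, bit (rootR nd r) i = true := by
  intro Rs
  induction Rs with
  | nil => intro i h; simp [bit_eq] at h
  | cons r Rs ih =>
    intro i h
    rw [List.foldr_cons, bit_lor, Bool.or_eq_true] at h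
    rcases h with h | h
    · exact ⟨r, List.mem_cons_self, h⟩
    · obtain ⟨r', hr', h'⟩ := ih i h
      exact ⟨r', List.mem_cons_of_mem _ hr', h'⟩

/-- The prefix is reached. -/
def Reached (P : ℕ → Fin N) (Q : List ℕ) : Prop :=
  ∃ y : G, ∀ i < Q.length, ((S.φ y (P i) : Fin N) : ℕ) = Q.getD i 0

theorem step (P : ℕ → Fin N) (hne : ∀ i j, i < 9 → j < 9 → i ≠ j → P i ≠ P j)
    (hcom : ∀ i j, i < 9 → j < 9 → i ≠ j → com (P i) (P j) = com (gpt.getD i 0) (gpt.getD j 0))
    {nd : Node} (hnd : nd ∈ nodes) (hlen : nd.pre.length < 9) (h : S.Reached P nd.pre) :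
    ∃ r ∈ nd.roots, S.Reached P (nd.pre ++ [r.1]) := by
  classical
  obtain ⟨y, hy⟩ := h
  set q := S.φ y (P nd.pre.length) with hq
  have hcand : cand nd.pre q = true := by
    simp only [cand, List.all_eq_true, List.mem_range, Bool.and_eq_true, Bool.not_eq_true', beq_iff_eq]
    intro i hi
    rw [← hy i hi]
    refine ⟨?_, ?_⟩
    · rw [← Bool.not_eq_true, Nat.beq_eq]
      intro h
      exact hne _ i hlen (by omega) (by omega) ((S.φ y).injective (Fin.ext h))
    · rw [hq, S.com_map, hcom i _ (by omega) hlen (by omega)]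
  have hcov := List.all_eq_true.mp cover_ok nd hnd
  rw [coverOK, force_eq] at hcov
  have h1 := allR_spec 12 0 hcov q (Nat.zero_le _) (by have := lt_of_pt q; omega)
  rw [show (Nat.blt q.val 3510 && cand nd.pre q) = true by rw [hcand]; simpa using lt_of_pt q] at h1
  simp only [cond_true, unionR] at h1
  obtain ⟨r, hr, hbit⟩ := S.mem_union nd nd.roots q h1
  have hrlt : r.1 < 3510 := by
    have h2 := List.all_eq_true.mp (List.all_eq_true.mp next_ok nd hnd) r hr
    simp only [Bool.and_eq_true, Nat.blt_eq] at h2
    exact h2.1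
  let K : Subgroup G :=
    { carrier := {z : G | ∀ i < nd.pre.length, ((S.φ z (S.φ y (P i)) : Fin N) : ℕ) = nd.pre.getD i 0}
      mul_mem' := fun {a b} ha hb i hi => by
        rw [map_mul, Equiv.Perm.mul_apply, show S.φ b (S.φ y (P i)) = S.φ y (P i) from
          Fin.ext ((hb i hi).trans (hy i hi).symm)]
        exact ha i hi
      one_mem' := fun i hi => by rw [map_one, Equiv.Perm.one_apply]; exact hy i hi
      inv_mem' := fun {a} ha i hi => by
        rw [map_inv, show (S.φ a)⁻¹ (S.φ y (P i)) = S.φ y (P i) from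
          Equiv.Perm.inv_eq_iff_eq.mpr (Fin.ext ((hy i hi).trans (ha i hi).symm))]
        exact hy i hi }
  have hg := List.all_eq_true.mp gens_ok nd hnd
  simp only [gensOK, List.all_eq_true, Bool.and_eq_true, Nat.blt_eq] at hg
  have hgl : ∀ s, s < nd.gens.length → nd.gens.getD s 0 ∈ nd.gens := fun s hs => by
    rw [List.getD_eq_getElem _ _ hs]; exact List.getElem_mem hs
  let gs : ℕ → G := fun s => prodw Fi22.setup.g (genW nd s)
  have hgs : ∀ s, s < nd.gens.length → gs s ∈ K := by
    intro s hs i hi
    obtain ⟨hp, hall⟩ := hg _ (hgl s hs)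
    have hgd : gs s = d ⟨nd.gens.getD s 0, hp⟩ := by
      show prodw _ (genW nd s) = _
      rw [genW, show Nat.blt s nd.gens.length = true by simpa using hs]
      rfl
    rw [hgd, S.phi_d, hy i hi]
    have hm : nd.pre.getD i 0 ∈ nd.pre := by
      rw [List.getD_eq_getElem _ _ hi]; exact List.getElem_mem hi
    exact Nat.eq_of_beq_eq_true (hall _ hm)
  have hsw : ∀ s, s < nd.gens.length → ∀ i : Fin N, ((S.φ (gs s))⁻¹ i).val = walk tb (genW nd s) i := by
    intro s hs i
    refine S.spec _ ?_ i
    rw [genW, show Nat.blt s nd.gens.length = true by simpa using hs]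
    exact dw_lt (hg _ (hgl s hs)).1
  have hpad : ∀ s, nd.gens.length ≤ s → genW nd s = [] := fun s hs => by
    rw [genW, show Nat.blt s nd.gens.length = false by
      rw [← Bool.not_eq_true, Nat.blt_eq]; omega]
    rfl
  obtain ⟨z, hz, hzr⟩ := reach_mem (φ := S.φ) (H := K) (genW nd) nd.gens.length gs hgs hsw hpad
    ⟨r.1, hrlt⟩ (R := rootR nd r) rfl q hbit
  refine ⟨r, hr, z * y, fun i hi => ?_⟩
  rw [map_mul, Equiv.Perm.mul_apply]
  rw [List.length_append, List.length_singleton] at hi
  by_cases hik : i < nd.pre.length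
  · rw [List.getD_eq_getElem?_getD, List.getElem?_append_left hik, ← List.getD_eq_getElem?_getD]
    exact hz i hik
  · obtain rfl : i = nd.pre.length := by omega
    rw [← hq, show q = (S.φ z)⁻¹ ⟨r.1, hrlt⟩ from Fin.ext hzr.symm, Equiv.Perm.inv_def,
      Equiv.apply_symm_apply]
    simp

/-- Every family with the pattern of the generators is conjugate to one of two families. -/
theorem exists_leaf (P : ℕ → Fin N) (h0 : P 0 = 0) (hne : ∀ i j, i < 9 → j < 9 → i ≠ j → P i ≠ P j)
    (hcom : ∀ i j, i < 9 → j < 9 → i ≠ j → com (P i) (P j) = com (gpt.getD i 0) (gpt.getD j 0)) :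
    S.Reached P gpt ∨ S.Reached P gpo := by
  have key : ∀ m, 1 ≤ m → m ≤ 9 → (m < 9 → ∃ nd ∈ nodes, nd.pre.length = m ∧ S.Reached P nd.pre) ∧
      (m = 9 → S.Reached P gpt ∨ S.Reached P gpo) := by
    intro m hm
    induction m, hm using Nat.le_induction with
    | base =>
      intro _
      refine ⟨fun _ => ?_, by norm_num⟩
      obtain ⟨nd, hnd, he⟩ := List.any_eq_true.mp first_node
      have he' : nd.pre = [0] := by simpa using he
      refine ⟨nd, hnd, by rw [he']; rfl, ?_⟩
      rw [he']
      refine ⟨1, fun i hi => ?_⟩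
      obtain rfl : i = 0 := by simpa using hi
      rw [map_one, Equiv.Perm.one_apply, h0]
      rfl
    | succ m hm ih =>
      intro hm9
      obtain ⟨nd, hnd, hl, hr⟩ := (ih (by omega)).1 (by omega)
      obtain ⟨r, hr', hreach⟩ := S.step P hne hcom hnd (by omega) hr
      have h2 := List.all_eq_true.mp (List.all_eq_true.mp next_ok nd hnd) r hr'
      simp only [Bool.and_eq_true] at h2
      rw [hl] at h2
      refine ⟨fun h9 => ?_, fun h9 => ?_⟩
      · rw [show Nat.beq (m + 1) 9 = false by
          rw [← Bool.not_eq_true, Nat.beq_eq]; omega] at h2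
        simp only [cond_false, List.any_eq_true, beq_iff_eq] at h2
        obtain ⟨md, hmd, he⟩ := h2.2
        exact ⟨md, hmd, by rw [he, List.length_append, hl]; rfl, he ▸ hreach⟩
      · rw [show Nat.beq (m + 1) 9 = true by rw [Nat.beq_eq]; omega] at h2
        simp only [cond_true, Bool.or_eq_true, beq_iff_eq] at h2
        rcases h2.2 with he | he
        · exact Or.inl (he ▸ hreach)
        · exact Or.inr (he ▸ hreach)
  exact (key 9 (by norm_num) le_rfl).2 rfl

end Act

end

end CfsgLib.Fi22Out
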